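import Mathlib
import Groth.Agent.VarDim.Algebra

/-!
Algebra behind EGA IV 14.3.13: independence of functions at points in the closure of the images of
generalizing families.
-/

set_option autoImplicit false
set_option linter.style.haveILetI false
universe u
open scoped TensorProduct

noncomputable section

namespace Groth.Agent.DimSpec

variable {A R : Type u} [CommRing A] [CommRing R] [Algebra A R]

/-- `a` is algebraically independent at `q` over `p`. -/
def Indep (p : Ideal A) (q : Ideal R) {n : ℕ} (a : Fin n → R) : Prop :=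
  ∀ Q : MvPolynomial (Fin n) A, (∃ m, Q.coeff m ∉ p) → MvPolynomial.aeval a Q ∉ q

/-- The image of a family of `R`-algebras in the fibre over `p` is dense for `a`. -/
def Dense' {ι : Type u} {C : ι → Type u} [∀ i, CommRing (C i)] (v : ∀ i, R →+* C i)
    (p : Ideal A) {n : ℕ} (a : Fin n → R) : Prop :=
  ∀ Q : MvPolynomial (Fin n) A, (∃ m, Q.coeff m ∉ p) → ∃ (i : ι) (y : Ideal (C i)), y.IsPrime ∧
    y.comap ((v i).comp (algebraMap A R)) = p ∧ v i (MvPolynomial.aeval a Q) ∉ y

/-- The generalisation property of a family over a valuation ring. -/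
def Gen {ι : Type u} {C : ι → Type u} [∀ i, CommRing (C i)] (v : ∀ i, R →+* C i)
    {K : Type u} [Field K] (V : ValuationSubring K) (φ : A →+* V) : Prop :=
  ∀ (i : ι) (L : Type u) [Field L] (ψ : V →+* L) (χ : C i →+* L),
    RingHom.ker ψ = IsLocalRing.maximalIdeal V → ψ.comp φ = χ.comp ((v i).comp (algebraMap A R)) →
    ∃ (D : Type u) (_ : CommRing D) (g : V →+* D) (c : C i →+* D) (π : D →+* L) (q' : Ideal D),
      q'.IsPrime ∧ g.comp φ = c.comp ((v i).comp (algebraMap A R)) ∧ π.comp g = ψ ∧ π.comp c = χ ∧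
      q' ≤ RingHom.ker π ∧ q'.comap g = ⊥

theorem exists_valuation (p p' : Ideal A) [p.IsPrime] [p'.IsPrime] (h : p' ≤ p) :
    ∃ (V : ValuationSubring p'.ResidueField) (φ : A →+* V),
      (∀ a, (φ a : p'.ResidueField) = algebraMap A p'.ResidueField a) ∧
      (IsLocalRing.maximalIdeal V).comap φ = p := by
  let g : Localization.AtPrime p →+* p'.ResidueField :=
    IsLocalization.lift (M := p.primeCompl) (g := algebraMap A p'.ResidueField) fun s =>
      isUnit_iff_ne_zero.mpr fun h0 => s.2 (h (Ideal.algebraMap_residueField_eq_zero.mp h0))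
  obtain ⟨V, hV, hloc⟩ := IsLocalRing.exists_factor_valuationRing g
  refine ⟨V, (g.codRestrict V.toSubring hV).comp (algebraMap A _), fun a => IsLocalization.lift_eq _ _, ?_⟩
  haveI := hloc
  haveI : IsLocalRing V.toSubring := inferInstanceAs (IsLocalRing V)
  rw [← Ideal.comap_comap]
  show ((IsLocalRing.maximalIdeal V).comap (g.codRestrict V.toSubring hV)).comap _ = p
  rw [show (IsLocalRing.maximalIdeal V).comap (g.codRestrict V.toSubring hV) =
    IsLocalRing.maximalIdeal (Localization.AtPrime p) from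
      ((IsLocalRing.local_hom_TFAE (g.codRestrict V.toSubring hV)).out 0 4).mp hloc]
  exact Localization.AtPrime.under_maximalIdeal

theorem exists_compositum (F W Y : Type u) [Field F] [Field W] [Field Y] [Algebra F W] [Algebra F Y] :
    ∃ (Ω : Type u) (_ : Field Ω) (iW : W →+* Ω) (iY : Y →+* Ω),
      ∀ x, iW (algebraMap F W x) = iY (algebraMap F Y x) := by
  obtain ⟨m, hm⟩ := Ideal.exists_maximal (W ⊗[F] Y)
  refine ⟨(W ⊗[F] Y) ⧸ m, Ideal.Quotient.field m, (Ideal.Quotient.mk m).comp Algebra.TensorProduct.includeLeftRingHom,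
    (Ideal.Quotient.mk m).comp Algebra.TensorProduct.includeRight.toRingHom, fun x => congrArg (Ideal.Quotient.mk m) ?_⟩
  show (algebraMap F W x) ⊗ₜ (1 : Y) = (1 : W) ⊗ₜ algebraMap F Y x
  rw [Algebra.algebraMap_eq_smul_one, TensorProduct.smul_tmul, ← Algebra.algebraMap_eq_smul_one]

/-- A relation with coefficients in a valuation ring, one of them a unit. -/
theorem exists_normalised {K : Type u} [Field K] (V : ValuationSubring K) {σ : Type*}
    (P : MvPolynomial σ K) (hP : P ≠ 0) :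
    ∃ (c : K) (P₀ : MvPolynomial σ V), MvPolynomial.map V.subtype P₀ = MvPolynomial.C c * P ∧
      ∃ m, IsUnit (P₀.coeff m) := by
  classical
  obtain ⟨m₀, hm₀, hmax⟩ := Finset.exists_max_image P.support (fun m => V.valuation (P.coeff m))
    (MvPolynomial.support_nonempty.mpr hP)
  have hne : P.coeff m₀ ≠ 0 := MvPolynomial.mem_support_iff.mp hm₀
  have hmem : ∀ m, (P.coeff m₀)⁻¹ * P.coeff m ∈ V := by
    intro m
    by_cases hm : m ∈ P.support
    · rw [← V.valuation_le_one_iff, map_mul, map_inv₀]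
      rw [inv_mul_le_one₀ (zero_lt_iff.mpr ((Valuation.ne_zero_iff _).mpr hne))]
      exact hmax m hm
    · rw [MvPolynomial.notMem_support_iff.mp hm, mul_zero]
      exact V.zero_mem
  obtain ⟨P₀, hP₀⟩ : ∃ P₀, MvPolynomial.map V.subtype P₀ = MvPolynomial.C (P.coeff m₀)⁻¹ * P := by
    refine ⟨∑ m ∈ P.support, MvPolynomial.monomial m ⟨_, hmem m⟩, ?_⟩
    conv_rhs => arg 2; rw [P.as_sum]
    rw [map_sum, Finset.mul_sum]
    refine Finset.sum_congr rfl fun m _ => ?_
    rw [MvPolynomial.map_monomial, MvPolynomial.C_mul_monomial]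
    rfl
  refine ⟨_, P₀, hP₀, m₀, ?_⟩
  have h1 := congrArg (MvPolynomial.coeff m₀) hP₀
  rw [MvPolynomial.coeff_map, MvPolynomial.coeff_C_mul, inv_mul_cancel₀ hne] at h1
  rw [show P₀.coeff m₀ = 1 from Subtype.ext h1]
  exact isUnit_one

set_option maxHeartbeats 1000000 in
/-- Some point of the dense family carries a field in which a given nonzero relation over an
extension of the residue field does not vanish. -/
theorem exists_nonvanishing (p : Ideal A) [p.IsPrime] {ι : Type u} {C : ι → Type u}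
    [∀ i, CommRing (C i)] (v : ∀ i, R →+* C i) {n : ℕ} (a : Fin n → R) (hd : Dense' v p a)
    (M : Type u) [Field M] [Algebra p.ResidueField M] (P : MvPolynomial (Fin n) M) (hP : P ≠ 0) :
    ∃ (i : ι) (L : Type u) (_ : Field L) (ψ : M →+* L) (χ : C i →+* L),
      (ψ.comp (algebraMap p.ResidueField M)).comp (algebraMap A p.ResidueField) =
          χ.comp ((v i).comp (algebraMap A R)) ∧
      MvPolynomial.eval₂ ψ (fun j => χ (v i (a j))) P ≠ 0 := by
  classical
  let k := p.ResidueField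
  let Tk := MvPolynomial (Fin n) k
  let e : Tk ⊗[k] M ≃+* MvPolynomial (Fin n) M :=
    (Algebra.TensorProduct.comm k Tk M).toRingEquiv.trans (MvPolynomial.algebraTensorAlgEquiv k M).toRingEquiv
  have hcomp : e.toRingHom.comp (algebraMap Tk (Tk ⊗[k] M)) = MvPolynomial.map (algebraMap k M) := by
    refine RingHom.ext fun Q => ?_
    show (MvPolynomial.algebraTensorAlgEquiv k M) (1 ⊗ₜ Q) = _
    rw [MvPolynomial.algebraTensorAlgEquiv_tmul, one_smul]
  let O := (PrimeSpectrum.comap (algebraMap Tk (Tk ⊗[k] M))) ''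
    (PrimeSpectrum.basicOpen (e.symm P) : Set (PrimeSpectrum (Tk ⊗[k] M)))
  have hO : IsOpen O :=
    PrimeSpectrum.isOpenMap_comap_algebraMap_tensorProduct_of_field _ (PrimeSpectrum.basicOpen _).isOpen
  have hne : O.Nonempty := by
    refine Set.Nonempty.image _ ⟨⟨(RingHom.ker e.toRingHom), ?_⟩, ?_⟩
    · exact RingHom.ker_isPrime _
    · show e.symm P ∉ RingHom.ker e.toRingHom
      rw [RingHom.mem_ker]
      simpa using hP
  obtain ⟨x₀, hx₀⟩ := hne
  obtain ⟨_, ⟨Q, rfl⟩, hxQ, hQO⟩ := PrimeSpectrum.isTopologicalBasis_basic_opens.exists_subset_of_mem_open hx₀ hO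
  have hQ0 : Q ≠ 0 := fun h0 => by
    subst h0
    exact (show (0 : Tk) ∉ x₀.asIdeal from hxQ) (zero_mem _)
  -- clear the denominators of `Q`
  have hclear : ∀ G : Tk, ∃ (s : A) (G₀ : MvPolynomial (Fin n) A), s ∉ p ∧
      MvPolynomial.map (algebraMap A k) G₀ = MvPolynomial.C (algebraMap A k s) * G := by
    intro G
    induction G using MvPolynomial.induction_on' with
    | monomial m x =>
      obtain ⟨x₁, x₂, hx₂, rfl⟩ := IsFractionRing.div_surjective (A ⧸ p) (x : p.ResidueField)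
      obtain ⟨x₁, rfl⟩ := Ideal.Quotient.mk_surjective x₁
      obtain ⟨x₂, rfl⟩ := Ideal.Quotient.mk_surjective x₂
      have hx : x₂ ∉ p := fun h => nonZeroDivisors.ne_zero hx₂ (Ideal.Quotient.eq_zero_iff_mem.mpr h)
      refine ⟨x₂, MvPolynomial.monomial m x₁, hx, ?_⟩
      rw [MvPolynomial.map_monomial, MvPolynomial.C_mul_monomial]
      congr 1
      have he : ∀ y : A, algebraMap (A ⧸ p) p.ResidueField (Ideal.Quotient.mk p y) = algebraMap A k y :=
        fun y => (IsScalarTower.algebraMap_apply A (A ⧸ p) p.ResidueField y).symm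
      rw [he, he, mul_div_cancel₀ _ (fun h0 => hx (Ideal.algebraMap_residueField_eq_zero.mp h0))]
    | add G G' hG hG' =>
      obtain ⟨s, G₀, hs, h1⟩ := hG
      obtain ⟨s', G₀', hs', h1'⟩ := hG'
      refine ⟨s * s', MvPolynomial.C s' * G₀ + MvPolynomial.C s * G₀',
        fun h => ((inferInstance : p.IsPrime).mem_or_mem h).elim hs hs', ?_⟩
      rw [map_add, map_mul, map_mul, h1, h1', MvPolynomial.map_C, MvPolynomial.map_C, map_mul, MvPolynomial.C_mul]
      ring
  obtain ⟨s, Q₀, hs, hQ₀⟩ := hclear Q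
  obtain ⟨i, y, hy, hyp, hQy⟩ := hd Q₀ (by
    by_contra hall
    push Not at hall
    refine hQ0 ?_
    have h0 : MvPolynomial.map (algebraMap A k) Q₀ = 0 := MvPolynomial.ext _ _ fun m => by
      rw [MvPolynomial.coeff_map, MvPolynomial.coeff_zero, Ideal.algebraMap_residueField_eq_zero]
      exact hall m
    rw [h0] at hQ₀
    refine (mul_eq_zero.mp hQ₀.symm).resolve_left ?_
    rw [MvPolynomial.C_eq_zero]
    exact fun h => hs (Ideal.algebraMap_residueField_eq_zero.mp h))
  haveI := hy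
  let Y := y.ResidueField
  let κk : k →+* Y := Ideal.ResidueField.map p y ((v i).comp (algebraMap A R)) hyp.symm
  have hκk : ∀ x, κk (algebraMap A k x) = algebraMap (C i) Y (v i (algebraMap A R x)) := fun x =>
    Ideal.ResidueField.map_algebraMap p y ((v i).comp (algebraMap A R)) hyp.symm x
  let χT : Tk →+* Y := MvPolynomial.eval₂Hom κk (fun j => algebraMap (C i) Y (v i (a j)))
  have hQ₀val : χT (MvPolynomial.map (algebraMap A k) Q₀) = algebraMap (C i) Y (v i (MvPolynomial.aeval a Q₀)) := by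
    show MvPolynomial.eval₂ κk _ (MvPolynomial.map (algebraMap A k) Q₀) = _
    rw [MvPolynomial.eval₂_map, MvPolynomial.aeval_def]
    show _ = ((algebraMap (C i) Y).comp (v i)) (MvPolynomial.eval₂ (algebraMap A R) a Q₀)
    rw [MvPolynomial.eval₂_comp_left]
    congr 1
    exact RingHom.ext hκk
  let qT : PrimeSpectrum Tk := ⟨RingHom.ker χT, RingHom.ker_isPrime _⟩
  have hqT : qT ∈ (PrimeSpectrum.basicOpen Q : Set (PrimeSpectrum Tk)) := by
    show Q ∉ RingHom.ker χT
    intro h0
    refine hQy ?_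
    rw [← Ideal.algebraMap_residueField_eq_zero (I := y)]
    rw [← hQ₀val, hQ₀, map_mul, RingHom.mem_ker.mp h0, mul_zero]
  obtain ⟨P', hP', hP'q⟩ := hQO hqT
  let W := P'.asIdeal.ResidueField
  haveI : qT.asIdeal.IsPrime := qT.isPrime
  haveI : P'.asIdeal.IsPrime := P'.isPrime
  letI : Algebra qT.asIdeal.ResidueField W := (Ideal.ResidueField.map qT.asIdeal P'.asIdeal
    (algebraMap Tk (Tk ⊗[k] M)) (congrArg PrimeSpectrum.asIdeal hP'q).symm).toAlgebra
  letI : Algebra qT.asIdeal.ResidueField Y := (Ideal.ResidueField.lift qT.asIdeal χT le_rfl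
    (fun x hx => isUnit_iff_ne_zero.mpr fun h0 => hx (RingHom.mem_ker.mpr h0))).toAlgebra
  obtain ⟨Ω, _, iW, iY, hΩ⟩ := exists_compositum qT.asIdeal.ResidueField W Y
  have hsq : ∀ G : Tk, iW (algebraMap (Tk ⊗[k] M) W (algebraMap Tk (Tk ⊗[k] M) G)) = iY (χT G) := by
    intro G
    have h1 : algebraMap (Tk ⊗[k] M) W (algebraMap Tk (Tk ⊗[k] M) G) =
        algebraMap qT.asIdeal.ResidueField W (algebraMap Tk qT.asIdeal.ResidueField G) :=
      (Ideal.ResidueField.map_algebraMap qT.asIdeal P'.asIdeal _ _ G).symm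
    have h2 : χT G = algebraMap qT.asIdeal.ResidueField Y (algebraMap Tk qT.asIdeal.ResidueField G) :=
      (Ideal.ResidueField.lift_algebraMap _ _ _ _ G).symm
    rw [h1, h2, hΩ]
  obtain ⟨Φ, hΦ, hΦP⟩ : ∃ Φ : MvPolynomial (Fin n) M →+* Ω,
      (∀ G : Tk, Φ (MvPolynomial.map (algebraMap k M) G) = iY (χT G)) ∧ Φ P ≠ 0 := by
    refine ⟨(iW.comp (algebraMap (Tk ⊗[k] M) W)).comp e.symm.toRingHom, fun G => ?_, ?_⟩
    · rw [← hcomp, ← hsq]
      show iW (algebraMap _ W (e.symm (e _))) = _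
      rw [RingEquiv.symm_apply_apply]
    · show iW (algebraMap _ W (e.symm P)) ≠ 0
      rw [map_ne_zero_iff _ iW.injective, Ne, Ideal.algebraMap_residueField_eq_zero]
      exact hP'
  refine ⟨i, _, inferInstance, Φ.comp MvPolynomial.C, iY.comp (algebraMap (C i) Y), RingHom.ext fun x => ?_, ?_⟩
  · show Φ (MvPolynomial.C (algebraMap k M (algebraMap A k x))) = iY (algebraMap (C i) Y (v i (algebraMap A R x)))
    rw [← MvPolynomial.map_C (algebraMap k M) (algebraMap A k x), hΦ, ← hκk]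
    exact congrArg iY (MvPolynomial.eval₂Hom_C _ _ _)
  · have hev : ∀ G, MvPolynomial.eval₂ (Φ.comp MvPolynomial.C) (fun j => (iY.comp (algebraMap (C i) Y)) (v i (a j))) G = Φ G := by
      intro G
      induction G using MvPolynomial.induction_on with
      | C c => simp
      | add G G' hG hG' => rw [MvPolynomial.eval₂_add, hG, hG', map_add]
      | mul_X G j hG =>
        rw [MvPolynomial.eval₂_mul, MvPolynomial.eval₂_X, hG, map_mul]
        congr 1
        rw [← MvPolynomial.map_X (algebraMap k M) j, hΦ]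
        rw [RingHom.comp_apply, show χT (MvPolynomial.X j) = algebraMap (C i) Y (v i (a j)) from MvPolynomial.eval₂Hom_X' κk _ j]
    rw [hev]
    exact hΦP

/-- EGA IV 14.3.13, algebraic core. -/
theorem indep_of_gen (p p' : Ideal A) [p.IsPrime] [p'.IsPrime] {ι : Type u}
    {C : ι → Type u} [∀ i, CommRing (C i)] (v : ∀ i, R →+* C i) (V : ValuationSubring p'.ResidueField)
    (φ : A →+* V) (hφ : ∀ a, (φ a : p'.ResidueField) = algebraMap A p'.ResidueField a)
    (hφp : (IsLocalRing.maximalIdeal V).comap φ = p) (hgen : Gen v V φ) {n : ℕ} (a : Fin n → R)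
    (hd : Dense' v p a) : Dense' v p' a := by
  classical
  intro Q hQ
  by_contra hcon
  push Not at hcon
  let K := p'.ResidueField
  let P : MvPolynomial (Fin n) K := MvPolynomial.map (algebraMap A K) Q
  have hP : P ≠ 0 := fun h0 => by
    obtain ⟨m, hm⟩ := hQ
    have := congrArg (MvPolynomial.coeff m) h0
    rw [MvPolynomial.coeff_map, MvPolynomial.coeff_zero] at this
    exact hm (Ideal.algebraMap_residueField_eq_zero.mp this)
  obtain ⟨c, P₀, hP₀, m₀, hm₀⟩ := exists_normalised V P hP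
  let κ := IsLocalRing.ResidueField V
  let θ : A →+* κ := (IsLocalRing.residue V).comp φ
  have hθ : RingHom.ker θ = p := by
    rw [← RingHom.comap_ker, IsLocalRing.ker_residue]; exact hφp
  have hθu : p.primeCompl ≤ (IsUnit.submonoid κ).comap θ := fun x hx =>
    isUnit_iff_ne_zero.mpr fun h0 => hx (hθ.le (RingHom.mem_ker.mpr h0))
  letI : Algebra p.ResidueField κ := (Ideal.ResidueField.lift p θ hθ.ge hθu).toAlgebra
  obtain ⟨i, L, _, ψ₀, χ, hcompat, hnv⟩ := exists_nonvanishing p v a hd κ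
    (MvPolynomial.map (IsLocalRing.residue V) P₀) (fun h0 => by
      have := congrArg (MvPolynomial.coeff m₀) h0
      rw [MvPolynomial.coeff_map, MvPolynomial.coeff_zero] at this
      exact (IsLocalRing.residue_ne_zero_iff_isUnit _).mpr hm₀ this)
  let ψ : V →+* L := ψ₀.comp (IsLocalRing.residue V)
  obtain ⟨D, _, g, cD, π, q', hq', hsq, hπg, hπc, hq'le, hq'0⟩ := hgen i L ψ χ (by
    rw [← RingHom.comap_ker, (RingHom.injective_iff_ker_eq_bot ψ₀).mp ψ₀.injective]
    exact IsLocalRing.ker_residue) (by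
    refine Eq.trans ?_ hcompat
    refine RingHom.ext fun x => congrArg ψ₀ ?_
    show θ x = algebraMap p.ResidueField κ (algebraMap A p.ResidueField x)
    rw [RingHom.algebraMap_toAlgebra, Ideal.ResidueField.lift_algebraMap])
  -- the element `P₀(a)` lies in `q'`
  suffices hmem : MvPolynomial.eval₂ g (fun j => cD (v i (a j))) P₀ ∈ q' by
    refine hnv ?_
    have h1 := RingHom.mem_ker.mp (hq'le hmem)
    rw [MvPolynomial.eval₂_comp_left π] at h1
    rw [MvPolynomial.eval₂_map, ← h1, hπg]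
    congr 1
    funext j
    exact (RingHom.congr_fun hπc (v i (a j))).symm
  let L' := FractionRing (D ⧸ q')
  let gL : V →+* L' := ((algebraMap (D ⧸ q') L').comp (Ideal.Quotient.mk q')).comp g
  have hgL : Function.Injective gL := by
    rw [RingHom.injective_iff_ker_eq_bot]
    show RingHom.ker (((algebraMap (D ⧸ q') L').comp (Ideal.Quotient.mk q')).comp g) = ⊥
    rw [← RingHom.comap_ker, RingHom.ker_comp_of_injective _ (IsFractionRing.injective (D ⧸ q') L'),
      Ideal.mk_ker, hq'0]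
  letI : Algebra V L' := gL.toAlgebra
  let kK : K →+* L' := IsLocalization.lift (M := nonZeroDivisors V) (g := gL) fun s =>
    isUnit_iff_ne_zero.mpr fun h0 => nonZeroDivisors.ne_zero s.2 (hgL (h0.trans (map_zero _).symm))
  have hkK : ∀ x : V, kK (x : K) = gL x := fun x => IsLocalization.lift_eq _ x
  let y' : Ideal (C i) := q'.comap cD
  have hy' : y'.comap ((v i).comp (algebraMap A R)) = p' := by
    rw [Ideal.comap_comap, ← hsq, ← Ideal.comap_comap, hq'0]
    ext x
    rw [Ideal.mem_comap, Submodule.mem_bot, ← Subtype.coe_inj, hφ, ZeroMemClass.coe_zero,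
      Ideal.algebraMap_residueField_eq_zero]
  haveI : y'.IsPrime := Ideal.comap_isPrime _ _
  have h2 : v i (MvPolynomial.aeval a Q) ∈ y' := hcon i y' inferInstance hy'
  rw [← Ideal.Quotient.eq_zero_iff_mem, ← map_eq_zero_iff (algebraMap (D ⧸ q') L') (IsFractionRing.injective _ _)]
  show ((algebraMap (D ⧸ q') L').comp (Ideal.Quotient.mk q')) _ = 0
  rw [MvPolynomial.eval₂_comp_left ((algebraMap (D ⧸ q') L').comp (Ideal.Quotient.mk q'))]
  have h3 : MvPolynomial.eval₂ gL (fun j => (algebraMap (D ⧸ q') L') (Ideal.Quotient.mk q' (cD (v i (a j))))) P₀ =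
      kK c * (algebraMap (D ⧸ q') L') (Ideal.Quotient.mk q' (cD (v i (MvPolynomial.aeval a Q)))) := by
    rw [show gL = kK.comp V.subtype from RingHom.ext fun x => (hkK x).symm, ← MvPolynomial.eval₂_map, hP₀,
      MvPolynomial.eval₂_mul, MvPolynomial.eval₂_C]
    congr 1
    rw [MvPolynomial.eval₂_map, MvPolynomial.aeval_def]
    rw [MvPolynomial.eval₂_comp_left (v i), MvPolynomial.eval₂_comp_left cD,
      MvPolynomial.eval₂_comp_left (Ideal.Quotient.mk q'), MvPolynomial.eval₂_comp_left (algebraMap (D ⧸ q') L')]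
    congr 1
    refine RingHom.ext fun x => ?_
    show kK (algebraMap A K x) = _
    rw [← hφ, hkK]
    exact congrArg (fun z => algebraMap (D ⧸ q') L' (Ideal.Quotient.mk q' z)) (RingHom.congr_fun hsq x)
  refine h3.trans ?_
  rw [Ideal.Quotient.eq_zero_iff_mem.mpr (show cD (v i (MvPolynomial.aeval a Q)) ∈ q' from h2), map_zero,
    mul_zero]

end Groth.Agent.DimSpec

namespace Groth.Agent.DimSpec

theorem exists_indep_generators (k D : Type u) [Field k] [CommRing D] [IsDomain D] [Algebra k D] {I : Type u}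
    (g : I → D) (hg : Algebra.adjoin k (Set.range g) = ⊤) {m : ℕ} (hm : Algebra.trdeg k D = m) :
    ∃ f : Fin m → I, AlgebraicIndependent k fun j => g (f j) := by
  haveI : Algebra.IsAlgebraic (Algebra.adjoin k (Set.range g)) D := ⟨fun x =>
    isAlgebraic_algebraMap (⟨x, hg ▸ Algebra.mem_top⟩ : Algebra.adjoin k (Set.range g))⟩
  obtain ⟨t, hts, ht⟩ := exists_isTranscendenceBasis_subset (R := k) (Set.range g)
  have hcard : Cardinal.mk t = m := by rw [ht.cardinalMk_eq_trdeg, hm]
  obtain ⟨et⟩ := Cardinal.mk_eq_nat_iff.mp hcard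
  choose r hr using fun x : t => hts x.2
  refine ⟨fun j => r (et.symm j), ?_⟩
  have h := ht.1.comp et.symm et.symm.injective
  convert h using 1
  funext j
  exact hr _

section Chains

variable {A R : Type u} [CommRing A] [CommRing R] [Algebra A R] [Algebra.FiniteType A R]
  (p : Ideal A) [p.IsPrime]

omit [Algebra.FiniteType A R] in
theorem mem_iff_fibre (𝒬 : PrimeSpectrum (p.Fiber R)) (r : R) :
    r ∈ (((PrimeSpectrum.preimageOrderIsoFiber A R ⟨p, inferInstance⟩).symm 𝒬).1).asIdeal ↔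
      ((1 : p.ResidueField) ⊗ₜ[A] r : p.Fiber R) ∈ 𝒬.asIdeal :=
  Iff.rfl

omit [Algebra.FiniteType A R] in
theorem indep_iff (q : PrimeSpectrum R) (hq : q.comap (algebraMap A R) = ⟨p, inferInstance⟩) {n : ℕ}
    (a : Fin n → R) :
    Indep p q.asIdeal a ↔ AlgebraicIndependent p.ResidueField fun j => Ideal.Quotient.mk
      ((PrimeSpectrum.preimageOrderIsoFiber A R ⟨p, inferInstance⟩) ⟨q, hq⟩).asIdeal
      ((1 : p.ResidueField) ⊗ₜ[A] a j : p.Fiber R) := by
  set e := PrimeSpectrum.preimageOrderIsoFiber A R ⟨p, inferInstance⟩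
  set 𝒬 := e ⟨q, hq⟩
  have key : ∀ Q : MvPolynomial (Fin n) A, MvPolynomial.aeval (fun j => Ideal.Quotient.mk 𝒬.asIdeal
      ((1 : p.ResidueField) ⊗ₜ[A] a j : p.Fiber R)) (MvPolynomial.map (algebraMap A p.ResidueField) Q) = 0 ↔
      MvPolynomial.aeval a Q ∈ q.asIdeal := by
    intro Q
    rw [MvPolynomial.aeval_map_algebraMap]
    let j : R →ₐ[A] p.Fiber R ⧸ 𝒬.asIdeal :=
      (Ideal.Quotient.mkₐ A 𝒬.asIdeal).comp Algebra.TensorProduct.includeRight
    show MvPolynomial.aeval (fun i => j (a i)) Q = 0 ↔ _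
    rw [← MvPolynomial.comp_aeval]
    show Ideal.Quotient.mk 𝒬.asIdeal ((1 : p.ResidueField) ⊗ₜ[A] MvPolynomial.aeval a Q : p.Fiber R) = 0 ↔ _
    rw [Ideal.Quotient.eq_zero_iff_mem, ← mem_iff_fibre, OrderIso.symm_apply_apply]
  constructor
  · intro h
    rw [algebraicIndependent_iff]
    intro G hG
    by_contra hne
    obtain ⟨m₀, hm₀⟩ := MvPolynomial.ne_zero_iff.mp hne
    classical
    obtain ⟨⟨b, hb⟩, hint⟩ := IsLocalization.exist_integer_multiples
      (nonZeroDivisors (A ⧸ p)) G.support fun m => G.coeff m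
    obtain ⟨b, rfl⟩ := Ideal.Quotient.mk_surjective b
    have hbp : b ∉ p := fun hbp => nonZeroDivisors.ne_zero hb (Ideal.Quotient.eq_zero_iff_mem.mpr hbp)
    have hlift : ∀ m, ∃ r : A, algebraMap A p.ResidueField r = algebraMap A p.ResidueField b * G.coeff m := by
      intro m
      by_cases hm : m ∈ G.support
      · obtain ⟨r, hr⟩ := hint m hm
        obtain ⟨r, rfl⟩ := Ideal.Quotient.mk_surjective r
        refine ⟨r, ?_⟩
        rw [IsScalarTower.algebraMap_apply A (A ⧸ p) p.ResidueField,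
          IsScalarTower.algebraMap_apply A (A ⧸ p) p.ResidueField b, Ideal.Quotient.algebraMap_eq, hr,
          Algebra.smul_def]
      · exact ⟨0, by rw [MvPolynomial.notMem_support_iff.mp hm, map_zero, mul_zero]⟩
    choose r hr using hlift
    let Q : MvPolynomial (Fin n) A := ∑ m ∈ G.support, MvPolynomial.monomial m (r m)
    have hQ : MvPolynomial.map (algebraMap A p.ResidueField) Q = MvPolynomial.C (algebraMap A _ b) * G := by
      conv_rhs => arg 2; rw [G.as_sum]
      rw [map_sum, Finset.mul_sum]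
      refine Finset.sum_congr rfl fun m _ => ?_
      rw [MvPolynomial.map_monomial, MvPolynomial.C_mul_monomial, hr]
    refine h Q ⟨m₀, fun hmem => ?_⟩ ((key Q).mp (by rw [hQ, map_mul, hG, mul_zero]))
    have h1 := congrArg (MvPolynomial.coeff m₀) hQ
    rw [MvPolynomial.coeff_map, MvPolynomial.coeff_C_mul, Ideal.algebraMap_residueField_eq_zero.mpr hmem] at h1
    exact mul_ne_zero (fun h0 => hbp (Ideal.algebraMap_residueField_eq_zero.mp h0)) hm₀ h1.symm
  · intro h Q hQ hmem
    obtain ⟨m, hm⟩ := hQ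
    have h1 := algebraicIndependent_iff.mp h _ ((key Q).mpr hmem)
    have h2 := congrArg (MvPolynomial.coeff m) h1
    rw [MvPolynomial.coeff_map, MvPolynomial.coeff_zero] at h2
    exact hm (Ideal.algebraMap_residueField_eq_zero.mp h2)

theorem exists_trdeg (𝒬 : PrimeSpectrum (p.Fiber R)) :
    ∃ m : ℕ, ringKrullDim (p.Fiber R ⧸ 𝒬.asIdeal) = m ∧
      Algebra.trdeg p.ResidueField (p.Fiber R ⧸ 𝒬.asIdeal) = m := by
  haveI := 𝒬.isPrime
  haveI : Algebra.FiniteType p.ResidueField (p.Fiber R ⧸ 𝒬.asIdeal) :=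
    VarDim.finiteType_quotient p.ResidueField (p.Fiber R) 𝒬.asIdeal
  obtain ⟨m, h1, h2, -⟩ := VarDim.exists_ringKrullDim_eq_trdeg p.ResidueField (p.Fiber R ⧸ 𝒬.asIdeal)
  exact ⟨m, h1, h2⟩

theorem exists_indep_of_chain (l : LTSeries (PrimeSpectrum R))
    (hl : ∀ i, (l i).comap (algebraMap A R) = ⟨p, inferInstance⟩) :
    ∃ a : Fin l.length → R, Indep p l.head.asIdeal a := by
  classical
  let e := PrimeSpectrum.preimageOrderIsoFiber A R ⟨p, inferInstance⟩
  let 𝒬 := e ⟨l.head, hl 0⟩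
  obtain ⟨m, hdim, htr⟩ := exists_trdeg p 𝒬
  have hle : l.length ≤ m := by
    let z : Fin (l.length + 1) → PrimeSpectrum.zeroLocus (R := p.Fiber R) (𝒬.asIdeal : Set (p.Fiber R)) :=
      fun i => ⟨e ⟨l i, hl i⟩, SetLike.coe_subset_coe.mpr (e.monotone (show (⟨l.head, hl 0⟩ :
        PrimeSpectrum.comap (algebraMap A R) ⁻¹' {⟨p, inferInstance⟩}) ≤ ⟨l i, hl i⟩ from l.monotone (Fin.zero_le i)))⟩
    have hz : StrictMono z := fun i j hij => e.strictMono (show (⟨l i, hl i⟩ :
      PrimeSpectrum.comap (algebraMap A R) ⁻¹' {⟨p, inferInstance⟩}) < ⟨l j, hl j⟩ from l.strictMono hij)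
    have h := Order.le_krullDim_iff.mpr ⟨LTSeries.mk l.length
      (fun i => (Ideal.primeSpectrumQuotientOrderIsoZeroLocus 𝒬.asIdeal).symm (z i))
      ((OrderIso.strictMono _).comp hz), rfl⟩
    rw [← ringKrullDim, hdim] at h
    exact_mod_cast h
  let s : Set (p.Fiber R ⧸ 𝒬.asIdeal) :=
    Set.range fun r : R => Ideal.Quotient.mk 𝒬.asIdeal ((1 : p.ResidueField) ⊗ₜ[A] r : p.Fiber R)
  haveI := 𝒬.isPrime
  have hs : Algebra.adjoin p.ResidueField s = ⊤ := by
    rw [eq_top_iff]
    rintro x -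
    obtain ⟨x, rfl⟩ := Ideal.Quotient.mk_surjective x
    induction x using TensorProduct.induction_on with
    | zero => rw [map_zero]; exact zero_mem _
    | tmul c r =>
      have : (c ⊗ₜ[A] r : p.Fiber R) = c • ((1 : p.ResidueField) ⊗ₜ[A] r : p.Fiber R) := by
        rw [TensorProduct.smul_tmul', smul_eq_mul, _root_.mul_one]
      rw [this]
      change c • Ideal.Quotient.mk 𝒬.asIdeal _ ∈ _
      refine Subalgebra.smul_mem _ (Algebra.subset_adjoin ?_) c
      exact Set.mem_range_self r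
    | add x y hx hy => rw [map_add]; exact add_mem hx hy
  obtain ⟨f, hf⟩ := exists_indep_generators p.ResidueField (p.Fiber R ⧸ 𝒬.asIdeal)
    (fun r : R => Ideal.Quotient.mk 𝒬.asIdeal ((1 : p.ResidueField) ⊗ₜ[A] r : p.Fiber R)) hs htr
  refine ⟨fun j => f (Fin.castLE hle j), (indep_iff p l.head (hl 0) _).mpr ?_⟩
  exact hf.comp (Fin.castLE hle) (Fin.castLE_injective hle)

theorem exists_chain_of_indep (q : PrimeSpectrum R) (hq : q.comap (algebraMap A R) = ⟨p, inferInstance⟩)
    {n : ℕ} (a : Fin n → R) (ha : Indep p q.asIdeal a) :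
    ∃ l : LTSeries (PrimeSpectrum R), l.length = n ∧
      ∀ i, q ≤ l i ∧ (l i).comap (algebraMap A R) = ⟨p, inferInstance⟩ := by
  let e := PrimeSpectrum.preimageOrderIsoFiber A R ⟨p, inferInstance⟩
  let 𝒬 := e ⟨q, hq⟩
  obtain ⟨m, hdim, htr⟩ := exists_trdeg p 𝒬
  haveI := 𝒬.isPrime
  have hn : n ≤ m := by
    have h := ((indep_iff p q hq a).mp ha).lift_cardinalMk_le_trdeg
    rw [htr, Cardinal.mk_fin, Cardinal.lift_natCast, Cardinal.lift_natCast] at h
    exact_mod_cast h
  have h : (n : WithBot ℕ∞) ≤ Order.krullDim (PrimeSpectrum (p.Fiber R ⧸ 𝒬.asIdeal)) := by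
    rw [← ringKrullDim, hdim]; exact_mod_cast hn
  obtain ⟨l, hl⟩ := Order.le_krullDim_iff.mp h
  let ι := Ideal.primeSpectrumQuotientOrderIsoZeroLocus 𝒬.asIdeal
  refine ⟨l.map (fun x => (e.symm (ι x).1).1) (fun x y hxy => e.symm.strictMono (ι.strictMono hxy)), hl,
    fun i => ⟨?_, ?_⟩⟩
  · show (⟨q, hq⟩ : PrimeSpectrum.comap (algebraMap A R) ⁻¹' {⟨p, inferInstance⟩}) ≤ e.symm (ι (l i)).1
    rw [e.le_symm_apply]
    exact fun x hx => (ι (l i)).2 hx
  · exact (e.symm (ι (l i)).1).2

end Chains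

end Groth.Agent.DimSpec
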