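import Mathlib
import Groth.Agent.DimSpec.Core
import Groth.Agent.DimLift.Basic

/-!
EGA IV 14.3.13: dimension of the closure of images in fibres.
-/

set_option autoImplicit false
set_option linter.style.haveILetI false
universe u
open CategoryTheory AlgebraicGeometry Limits Topology

noncomputable section

namespace Groth.Agent.DimSpec

variable {X S : Scheme.{u}}

theorem app_fromSpec {f : X ⟶ S} {U : S.Opens} {W : X.Opens} (hU : IsAffineOpen U) (hW : IsAffineOpen W)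
    (e : W ≤ f ⁻¹ᵁ U) (q : PrimeSpectrum Γ(X, W)) :
    f (hW.fromSpec q) = hU.fromSpec (q.comap (f.appLE U W e).hom) := by
  show (hW.fromSpec ≫ f) q = _
  rw [← IsAffineOpen.SpecMap_appLE_fromSpec f hU hW e]
  rfl

theorem fromSpec_mem_basicOpen {W : X.Opens} (hW : IsAffineOpen W) (q : PrimeSpectrum Γ(X, W)) (r : Γ(X, W)) :
    hW.fromSpec q ∈ X.basicOpen r ↔ r ∉ q.asIdeal := by
  show q ∈ hW.fromSpec ⁻¹ᵁ X.basicOpen r ↔ _
  rw [hW.fromSpec_preimage_basicOpen]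
  rfl

theorem exists_fromSpec {W : X.Opens} (hW : IsAffineOpen W) {x : X} (hx : x ∈ W) :
    ∃ q : PrimeSpectrum Γ(X, W), hW.fromSpec q = x := by
  have : x ∈ Set.range hW.fromSpec := by rw [hW.range_fromSpec]; exact hx
  exact this

theorem gen_of_universallyOpen {ι : Type u} {Y : ι → Scheme.{u}} (g : ∀ i, Y i ⟶ S)
    [∀ i, UniversallyOpen (g i)] {U : S.Opens} (hU : IsAffineOpen U) {K : Type u} [Field K]
    (V : ValuationSubring K) (φ : Γ(S, U) →+* V) (i : ι) {Y₀ : (Y i).Opens} (hY₀ : IsAffineOpen Y₀)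
    (e : Y₀ ≤ g i ⁻¹ᵁ U) (L : Type u) [Field L] (ψ : V →+* L) (χ : Γ(Y i, Y₀) →+* L)
    (hψ : RingHom.ker ψ = IsLocalRing.maximalIdeal V) (hc : ψ.comp φ = χ.comp ((g i).appLE U Y₀ e).hom) :
    ∃ (D : Type u) (_ : CommRing D) (gV : V →+* D) (c : Γ(Y i, Y₀) →+* D) (π : D →+* L) (q' : Ideal D),
      q'.IsPrime ∧ gV.comp φ = c.comp ((g i).appLE U Y₀ e).hom ∧ π.comp gV = ψ ∧ π.comp c = χ ∧
      q' ≤ RingHom.ker π ∧ q'.comap gV = ⊥ := by
  let φS : Spec (CommRingCat.of V) ⟶ S := Spec.map (CommRingCat.ofHom φ) ≫ hU.fromSpec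
  let ℓ : Spec (CommRingCat.of L) ⟶ pullback (g i) φS :=
    pullback.lift (Spec.map (CommRingCat.ofHom χ) ≫ hY₀.fromSpec) (Spec.map (CommRingCat.ofHom ψ)) (by
      rw [Category.assoc, ← IsAffineOpen.SpecMap_appLE_fromSpec (g i) hU hY₀ e, ← Spec.map_comp_assoc,
        ← Spec.map_comp_assoc]
      congr 2
      exact CommRingCat.hom_ext hc.symm)
  obtain ⟨pt⟩ : Nonempty (Spec (CommRingCat.of L)) := inferInstance
  have hq : ℓ pt ∈ pullback.fst (g i) φS ⁻¹ᵁ Y₀ := by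
    show (ℓ ≫ pullback.fst (g i) φS) pt ∈ Y₀
    rw [pullback.lift_fst, Scheme.Hom.comp_apply]
    have : hY₀.fromSpec (Spec.map (CommRingCat.ofHom χ) pt) ∈ Set.range hY₀.fromSpec := ⟨_, rfl⟩
    rwa [hY₀.range_fromSpec] at this
  obtain ⟨W₀, hW₀, hqW, hW₀sub⟩ := exists_isAffineOpen_mem_and_subset hq
  have hW₀le : W₀ ≤ pullback.fst (g i) φS ⁻¹ᵁ Y₀ := hW₀sub
  let D : CommRingCat.{u} := Γ(pullback (g i) φS, W₀)
  obtain ⟨ℓ', hℓ'⟩ : ∃ ℓ' : Spec (CommRingCat.of L) ⟶ Spec D, ℓ' ≫ hW₀.fromSpec = ℓ := by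
    refine ⟨IsOpenImmersion.lift hW₀.fromSpec ℓ ?_, IsOpenImmersion.lift_fac _ _ _⟩
    rw [hW₀.range_fromSpec]
    rintro _ ⟨pt', rfl⟩
    rwa [show pt' = pt from Subsingleton.elim _ _]
  let c : Γ(Y i, Y₀) ⟶ D := (pullback.fst (g i) φS).appLE Y₀ W₀ hW₀le
  let gV : CommRingCat.of V ⟶ D := Spec.preimage (hW₀.fromSpec ≫ pullback.snd (g i) φS)
  let π : D ⟶ CommRingCat.of L := Spec.preimage ℓ'
  let πh : D →+* L := π.hom
  haveI hπprime : (RingHom.ker πh).IsPrime := @RingHom.ker_isPrime _ _ _ _ _ _ _ _ πh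
  have hcspec : Spec.map c ≫ hY₀.fromSpec = hW₀.fromSpec ≫ pullback.fst (g i) φS :=
    IsAffineOpen.SpecMap_appLE_fromSpec _ hY₀ hW₀ hW₀le
  have h1 : gV.hom.comp φ = c.hom.comp ((g i).appLE U Y₀ e).hom := by
    have : CommRingCat.ofHom φ ≫ gV = (g i).appLE U Y₀ e ≫ c := by
      apply Spec.map_injective
      rw [Spec.map_comp, Spec.map_comp, ← cancel_mono hU.fromSpec, Category.assoc, Category.assoc,
        Spec.map_preimage, IsAffineOpen.SpecMap_appLE_fromSpec (g i) hU hY₀ e, reassoc_of% hcspec,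
        pullback.condition, Category.assoc]
    exact congrArg CommRingCat.Hom.hom this
  have h2 : π.hom.comp gV.hom = ψ := by
    have : gV ≫ π = CommRingCat.ofHom ψ := by
      apply Spec.map_injective
      rw [Spec.map_comp, Spec.map_preimage, Spec.map_preimage, reassoc_of% hℓ', pullback.lift_snd]
    exact congrArg CommRingCat.Hom.hom this
  have h3 : π.hom.comp c.hom = χ := by
    have : c ≫ π = CommRingCat.ofHom χ := by
      apply Spec.map_injective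
      rw [← cancel_mono hY₀.fromSpec, Spec.map_comp, Category.assoc, hcspec, Spec.map_preimage,
        reassoc_of% hℓ', pullback.lift_fst]
    exact congrArg CommRingCat.Hom.hom this
  -- openness gives a generisation over the generic point
  let M : Submonoid D := Submonoid.map gV.hom.toMonoidHom (nonZeroDivisors V) ⊔ (RingHom.ker πh).primeCompl
  have hM : Disjoint ((⊥ : Ideal D) : Set D) (M : Set D) := by
    rw [Set.disjoint_left]
    intro d hd0 hd
    obtain ⟨_, ⟨s, hs, rfl⟩, d, hdπ, rfl⟩ := Submonoid.mem_sup.mp hd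
    have hO : IsOpen ((hW₀.fromSpec ≫ pullback.snd (g i) φS) '' (PrimeSpectrum.basicOpen d : Set (PrimeSpectrum D))) := by
      have := (pullback.snd (g i) φS).isOpenMap.comp hW₀.fromSpec.isOpenEmbedding.isOpenMap
      rw [show ⇑(hW₀.fromSpec ≫ pullback.snd (g i) φS) = ⇑(pullback.snd (g i) φS) ∘ ⇑hW₀.fromSpec from rfl]
      exact this _ (PrimeSpectrum.basicOpen d).isOpen
    let 𝔪 : PrimeSpectrum D := ⟨RingHom.ker πh, RingHom.ker_isPrime _⟩
    let η : PrimeSpectrum V := ⟨⊥, Ideal.isPrime_bot⟩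
    have hcl : (hW₀.fromSpec ≫ pullback.snd (g i) φS) 𝔪 = IsLocalRing.closedPoint V := by
      rw [show hW₀.fromSpec ≫ pullback.snd (g i) φS = Spec.map gV from (Spec.map_preimage _).symm]
      refine PrimeSpectrum.ext ?_
      show (RingHom.ker πh).comap gV.hom = IsLocalRing.maximalIdeal V
      rw [RingHom.comap_ker, ← hψ]
      exact congrArg RingHom.ker h2
    have hη : η ⤳ IsLocalRing.closedPoint V := (PrimeSpectrum.le_iff_specializes _ _).mp bot_le
    obtain ⟨𝔯, h𝔯, h𝔯η⟩ := hη.mem_open hO ⟨𝔪, hdπ, hcl⟩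
    rw [show hW₀.fromSpec ≫ pullback.snd (g i) φS = Spec.map gV from (Spec.map_preimage _).symm] at h𝔯η
    have h4 : (𝔯 : PrimeSpectrum D).asIdeal.comap gV.hom = ⊥ := congrArg PrimeSpectrum.asIdeal h𝔯η
    rcases (𝔯 : PrimeSpectrum D).isPrime.mem_or_mem
        (show gV.hom s * d ∈ (𝔯 : PrimeSpectrum D).asIdeal from
          (show gV.hom s * d = (0 : D) from hd0) ▸ zero_mem _) with h5 | h5
    · have h6 : s ∈ (⊥ : Ideal V) := h4 ▸ h5
      exact nonZeroDivisors.ne_zero hs h6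
    · exact h𝔯 h5
  obtain ⟨q', hq', -, hdisj⟩ := Ideal.exists_le_prime_disjoint ⊥ M hM
  refine ⟨D, inferInstance, gV.hom, c.hom, π.hom, q', hq', h1, h2, h3, fun d hd => ?_, ?_⟩
  · by_contra hne
    exact Set.disjoint_left.mp hdisj hd (Submonoid.mem_sup_right hne)
  · rw [eq_bot_iff]
    intro s hs
    by_contra hne
    exact Set.disjoint_left.mp hdisj hs
      (Submonoid.mem_sup_left ⟨s, mem_nonZeroDivisors_of_ne_zero hne, rfl⟩)

/-- The closure, inside a fibre, of the images of the family. -/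
def clSet (f : X ⟶ S) {ι : Type u} {Y : ι → Scheme.{u}} (v : ∀ i, Y i ⟶ X) (t : S) : Set X :=
  f ⁻¹' {t} ∩ closure ((⋃ i, Set.range (v i)) ∩ f ⁻¹' {t})

attribute [local instance] specializationOrder

theorem topDim_clSet (f : X ⟶ S) {ι : Type u} {Y : ι → Scheme.{u}} (v : ∀ i, Y i ⟶ X) (t : S) :
    topologicalKrullDim (clSet f v t) = Order.krullDim (clSet f v t) := by
  let E : f.fiber t ≃ₜ f ⁻¹' {t} := f.fiberHomeo t
  let C : Set (f ⁻¹' {t}) := Subtype.val ⁻¹' closure ((⋃ i, Set.range (v i)) ∩ f ⁻¹' {t})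
  have hC : IsClosed C := isClosed_closure.preimage continuous_subtype_val
  haveI : QuasiSober (f ⁻¹' {t}) := E.symm.isClosedEmbedding.quasiSober
  haveI : QuasiSober C := hC.isClosedEmbedding_subtypeVal.quasiSober
  let e : C ≃ₜ clSet f v t :=
    { toFun := fun x => ⟨x.1.1, x.1.2, x.2⟩
      invFun := fun x => ⟨⟨x.1, x.2.1⟩, x.2.2⟩
      left_inv := fun _ => rfl
      right_inv := fun _ => rfl
      continuous_toFun := by fun_prop
      continuous_invFun := by fun_prop }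
  haveI : QuasiSober (clSet f v t) := e.symm.isClosedEmbedding.quasiSober
  rw [DimLift.topDim_eq_krullDim_points (X := ↥(clSet f v t))]
  congr 1
  exact Preorder.ext fun x y => subtype_specializes_iff y x

theorem dim_clSet_le {f : X ⟶ S} [LocallyOfFiniteType f] {ι : Type u} {Y : ι → Scheme.{u}}
    (g : ∀ i, Y i ⟶ S) [∀ i, UniversallyOpen (g i)] (v : ∀ i, Y i ⟶ X) (hv : ∀ i, v i ≫ f = g i)
    {s s' : S} (hs : s' ⤳ s) :
    topologicalKrullDim (clSet f v s) ≤ topologicalKrullDim (clSet f v s') := by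
  obtain rfl : (fun i => v i ≫ f) = g := funext hv
  rw [topDim_clSet, topDim_clSet]
  refine iSup_le fun l => ?_
  -- affine charts around the most special point
  obtain ⟨U, hU, hxU, -⟩ := exists_isAffineOpen_mem_and_subset (U := ⊤) (x := s) trivial
  obtain ⟨W, hW, hxW, eWsub⟩ := exists_isAffineOpen_mem_and_subset (U := f ⁻¹ᵁ U) (x := (l.head : X))
    (show f (l.head : X) ∈ U by rw [show f (l.head : X) = s from l.head.2.1]; exact hxU)
  have eW : W ≤ f ⁻¹ᵁ U := eWsub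
  letI : Algebra Γ(S, U) Γ(X, W) := (f.appLE U W eW).hom.toAlgebra
  haveI : Algebra.FiniteType Γ(S, U) Γ(X, W) := LocallyOfFiniteType.finiteType_appLE f hU hW eW
  obtain ⟨𝔭, h𝔭⟩ := exists_fromSpec hU hxU
  obtain ⟨𝔭', h𝔭'⟩ := exists_fromSpec hU (hs.mem_open U.isOpen hxU)
  have hle : 𝔭'.asIdeal ≤ 𝔭.asIdeal := by
    have : 𝔭' ⤳ 𝔭 := hU.fromSpec.isOpenEmbedding.isEmbedding.specializes_iff.mp (by rw [h𝔭, h𝔭']; exact hs)
    exact (PrimeSpectrum.le_iff_specializes _ _).mpr this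
  have hover : ∀ (q : PrimeSpectrum Γ(X, W)) (𝔮 : PrimeSpectrum Γ(S, U)),
      f (hW.fromSpec q) = hU.fromSpec 𝔮 ↔ q.comap (algebraMap Γ(S, U) Γ(X, W)) = 𝔮 := fun q 𝔮 => by
    rw [app_fromSpec hU hW eW]
    exact hU.fromSpec.isOpenEmbedding.injective.eq_iff
  have hspec : ∀ j k, j ≤ k → (l k : X) ⤳ (l j : X) := fun j k hjk => l.monotone hjk
  have hmemW : ∀ j, (l j : X) ∈ W := fun j => (hspec 0 j (Fin.zero_le j)).mem_open W.isOpen hxW
  choose q hq using fun j => exists_fromSpec hW (hmemW j)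
  have hlt : ∀ j k, j < k → q k < q j := fun j k hjk => by
    have h2 : q k ⤳ q j := hW.fromSpec.isOpenEmbedding.isEmbedding.specializes_iff.mp (by
      rw [hq, hq]; exact hspec j k hjk.le)
    refine lt_of_le_of_ne ((PrimeSpectrum.le_iff_specializes _ _).mpr h2) fun he => ?_
    exact (l.strictMono hjk).ne (Subtype.ext (by rw [← hq, ← hq, he]))
  let L : LTSeries (PrimeSpectrum Γ(X, W)) :=
    LTSeries.mk l.length (fun j => q j.rev) fun j k hjk => hlt _ _ (Fin.rev_lt_rev.mpr hjk)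
  have hL : ∀ j : Fin (l.length + 1), (L j).comap (algebraMap Γ(S, U) Γ(X, W)) = ⟨𝔭.asIdeal, 𝔭.isPrime⟩ := fun j => by
    refine (hover _ _).mp ?_
    rw [show L j = q j.rev from rfl, hq, show hU.fromSpec ⟨𝔭.asIdeal, 𝔭.isPrime⟩ = s from h𝔭]
    exact (l j.rev).2.1
  obtain ⟨a, ha⟩ := exists_indep_of_chain 𝔭.asIdeal L hL
  -- the family
  let κ : Type u := Σ i, {Y₀ : (Y i).Opens // IsAffineOpen Y₀ ∧ Y₀ ≤ v i ⁻¹ᵁ W}
  let C : κ → Type u := fun k => Γ(Y k.1, k.2.1)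
  let w : ∀ k, Γ(X, W) →+* C k := fun k => ((v k.1).appLE W k.2.1 k.2.2.2).hom
  have hw : ∀ k, (w k).comp (algebraMap Γ(S, U) Γ(X, W)) =
      ((v k.1 ≫ f).appLE U k.2.1 (k.2.2.2.trans ((v k.1).preimage_mono eW))).hom := fun k => by
    show (f.appLE U W eW ≫ (v k.1).appLE W k.2.1 k.2.2.2).hom = _
    rw [Scheme.Hom.appLE_comp_appLE]
  haveI := 𝔭.isPrime
  haveI := 𝔭'.isPrime
  have hdense : Dense' w 𝔭.asIdeal a := by
    intro Q hQ
    have hr := ha Q hQ
    have hx : (l (Fin.last _) : X) ∈ X.basicOpen (MvPolynomial.aeval a Q) := by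
      rw [← hq (Fin.last _)]
      refine (fromSpec_mem_basicOpen hW _ _).mpr ?_
      have hh : L.head = q (Fin.last _) := congrArg q (Fin.rev_zero _)
      rw [← hh]
      exact hr
    obtain ⟨z, hz, hzS, hzs⟩ := mem_closure_iff.mp (l (Fin.last _)).2.2 _ (X.basicOpen _).isOpen hx
    obtain ⟨i, y, rfl⟩ := Set.mem_iUnion.mp hzS
    obtain ⟨Y₀, hY₀, hyY₀, hY₀sub⟩ := exists_isAffineOpen_mem_and_subset (U := v i ⁻¹ᵁ W) (x := y)
      (X.basicOpen_le _ hz)
    obtain ⟨y₀, rfl⟩ := exists_fromSpec hY₀ hyY₀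
    have hY₀le : Y₀ ≤ v i ⁻¹ᵁ W := hY₀sub
    rw [app_fromSpec hW hY₀ hY₀le] at hz
    replace hz := (fromSpec_mem_basicOpen hW _ _).mp hz
    refine ⟨⟨i, Y₀, hY₀, hY₀le⟩, y₀.asIdeal, y₀.isPrime, ?_, hz⟩
    rw [← Ideal.comap_comap]
    refine congrArg PrimeSpectrum.asIdeal ((hover (y₀.comap (w ⟨i, Y₀, hY₀, hY₀le⟩)) 𝔭).mp ?_)
    rw [← app_fromSpec hW hY₀ hY₀le, h𝔭]
    exact hzs
  obtain ⟨V, φ, hφ, hφp⟩ := exists_valuation 𝔭.asIdeal 𝔭'.asIdeal hle
  have hdense' : Dense' w 𝔭'.asIdeal a := by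
    refine indep_of_gen 𝔭.asIdeal 𝔭'.asIdeal w V φ hφ hφp (fun k L _ ψ χ hψ hc => ?_) a hdense
    rw [hw k] at hc ⊢
    exact gen_of_universallyOpen (fun i => v i ≫ f) hU V φ k.1 k.2.2.1 _ L ψ χ hψ hc
  -- a point of the closure over `s'`
  let I : Ideal Γ(X, W) := ⨅ (k : κ) (y : Ideal (C k)) (_ : y.IsPrime)
    (_ : y.comap ((w k).comp (algebraMap Γ(S, U) Γ(X, W))) = 𝔭'.asIdeal), y.comap (w k)
  haveI : IsDomain (Γ(S, U) ⧸ 𝔭'.asIdeal) := Ideal.Quotient.isDomain _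
  haveI : (RingHom.ker (MvPolynomial.map (σ := Fin L.length) (Ideal.Quotient.mk 𝔭'.asIdeal))).IsPrime :=
    RingHom.ker_isPrime _
  let M : Submonoid Γ(X, W) :=
    (RingHom.ker (MvPolynomial.map (σ := Fin L.length) (Ideal.Quotient.mk 𝔭'.asIdeal))).primeCompl.map
      (MvPolynomial.aeval a).toRingHom.toMonoidHom
  have hdisj : Disjoint (I : Set Γ(X, W)) (M : Set Γ(X, W)) := by
    rw [Set.disjoint_left]
    rintro _ hrI ⟨Q, hQ, rfl⟩
    have hQ' : ∃ m, Q.coeff m ∉ 𝔭'.asIdeal := by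
      by_contra hall
      push Not at hall
      refine hQ (MvPolynomial.ext _ _ fun m => ?_)
      rw [MvPolynomial.coeff_map, MvPolynomial.coeff_zero, Ideal.Quotient.eq_zero_iff_mem]
      exact hall m
    obtain ⟨k, y, hy, hyp, hQy⟩ := hdense' Q hQ'
    simp only [I, SetLike.mem_coe, Submodule.mem_iInf] at hrI
    exact hQy (hrI k y hy hyp)
  obtain ⟨q', hq', hIq', hdisj'⟩ := Ideal.exists_le_prime_disjoint I M hdisj
  have hq'over : (⟨q', hq'⟩ : PrimeSpectrum Γ(X, W)).comap (algebraMap Γ(S, U) Γ(X, W)) = 𝔭' := by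
    refine PrimeSpectrum.ext (le_antisymm (fun c hc => ?_) fun c hc => hIq' ?_)
    · by_contra hc'
      refine Set.disjoint_left.mp hdisj' hc ⟨MvPolynomial.C c, fun h0 => hc' ?_, MvPolynomial.aeval_C _ _⟩
      rw [SetLike.mem_coe, RingHom.mem_ker, MvPolynomial.map_C, MvPolynomial.C_eq_zero] at h0
      exact Ideal.Quotient.eq_zero_iff_mem.mp h0
    · simp only [I, Submodule.mem_iInf]
      intro k y _ hyp
      rw [← hyp] at hc
      exact hc
  have hind' : Indep 𝔭'.asIdeal q' a := fun Q hQ hmem => by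
    refine Set.disjoint_left.mp hdisj' hmem ⟨Q, fun h0 => ?_, rfl⟩
    obtain ⟨m, hm⟩ := hQ
    refine hm (Ideal.Quotient.eq_zero_iff_mem.mp ?_)
    have h1 := congrArg (MvPolynomial.coeff m) (RingHom.mem_ker.mp h0)
    rwa [MvPolynomial.coeff_map, MvPolynomial.coeff_zero] at h1
  obtain ⟨L', hL'len, hL'⟩ := exists_chain_of_indep 𝔭'.asIdeal ⟨q', hq'⟩ hq'over a hind'
  have hfib : ∀ j, f (hW.fromSpec (L' j)) = s' := fun j => by
    rw [← h𝔭']; exact (hover _ _).mpr (hL' j).2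
  -- the point of `q'` lies in the closure
  have hcl : hW.fromSpec ⟨q', hq'⟩ ∈ closure ((⋃ i, Set.range (v i)) ∩ f ⁻¹' {s'}) := by
    rw [mem_closure_iff]
    intro O hO hxO
    have hxW' : hW.fromSpec ⟨q', hq'⟩ ∈ W := by
      have : hW.fromSpec ⟨q', hq'⟩ ∈ Set.range hW.fromSpec := ⟨_, rfl⟩
      rwa [hW.range_fromSpec] at this
    obtain ⟨r, hrO, hxr⟩ := hW.exists_basicOpen_le (V := ⟨O, hO⟩) ⟨_, hxO⟩ hxW'
    have hr : r ∉ I := fun hrI => (fromSpec_mem_basicOpen hW _ r).mp hxr (hIq' hrI)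
    simp only [I, Submodule.mem_iInf, not_forall] at hr
    obtain ⟨⟨i, Y₀, hY₀, hY₀le⟩, y, hy, hyp, hry⟩ := hr
    have hz : v i (hY₀.fromSpec ⟨y, hy⟩) =
        hW.fromSpec ((⟨y, hy⟩ : PrimeSpectrum Γ(Y i, Y₀)).comap ((v i).appLE W Y₀ hY₀le).hom) :=
      app_fromSpec hW hY₀ hY₀le _
    refine ⟨v i (hY₀.fromSpec ⟨y, hy⟩), hrO ?_, Set.mem_iUnion.mpr ⟨i, _, rfl⟩, ?_⟩
    · rw [hz]
      exact (fromSpec_mem_basicOpen hW _ r).mpr hry
    · show f _ = s'
      rw [hz, ← h𝔭']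
      exact (hover _ _).mpr (PrimeSpectrum.ext hyp)
  have hclL : ∀ j, hW.fromSpec (L' j) ∈ closure ((⋃ i, Set.range (v i)) ∩ f ⁻¹' {s'}) := fun j =>
    (((PrimeSpectrum.le_iff_specializes _ _).mp (hL' j).1).map hW.fromSpec.continuous).mem_closed isClosed_closure hcl
  let z : Fin (L'.length + 1) → clSet f v s' := fun j => ⟨hW.fromSpec (L' j.rev), hfib _, hclL _⟩
  have hz : StrictMono z := fun j k hjk => by
    have h1 : L' k.rev < L' j.rev := L'.strictMono (Fin.rev_lt_rev.mpr hjk)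
    have h2 : L' k.rev ⤳ L' j.rev := (PrimeSpectrum.le_iff_specializes _ _).mp h1.le
    have h3 : z j ≤ z k := h2.map hW.fromSpec.continuous
    refine lt_of_le_of_ne h3 fun he => ?_
    have e : hW.fromSpec (L' j.rev) = hW.fromSpec (L' k.rev) := congrArg (fun x : clSet f v s' => (x : X)) he
    exact h1.ne (hW.fromSpec.isOpenEmbedding.injective e.symm)
  refine le_trans (le_of_eq ?_) (Order.le_krullDim_iff.mpr ⟨LTSeries.mk L'.length z hz, rfl⟩)
  rw [show L.length = l.length from rfl] at hL'len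
  exact_mod_cast hL'len.symm

end Groth.Agent.DimSpec
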